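import Mathlib

/-!
# The degree of the characters of `²G₂(27)` not rational on the elements of order 19 (helper388)
-/

set_option autoImplicit false

namespace Cfsg.Agent.H388.R27

/-- the order of `²G₂(27)` -/
abbrev NN : ℕ := 10073444472

/-- the finite check -/
def Chk (D : ℕ) (x : ℤ) : Prop :=
  ∀ ε ∈ ({1, -1} : Finset ℤ), ∀ c ∈ ({0, 1, -1} : Finset ℤ), ((D : ℤ) - c - 6 * ε) % 19 = 0 →
    (D : ℤ) ^ 2 + 88363548 * (78 - 12 * ε * c + 18 * c ^ 2) +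
      45375876 * (((D % 37) * (37 - D % 37) : ℕ) : ℤ) + 193720086 * (((D % 13) * (13 - D % 13) : ℕ) : ℤ) +
      511784 * x ^ 2 ≤ (NN : ℤ) → D = 26936 ∧ ε = -1 ∧ c = 0 ∧ x = -37

instance (D : ℕ) (x : ℤ) : Decidable (Chk D x) := by unfold Chk; infer_instance

theorem chk_all : ∀ a ∈ Finset.range 4, ∀ b ∈ Finset.range 10, ∀ c ∈ Finset.range 2, ∀ d ∈ Finset.range 2,
    ∀ e ∈ Finset.range 2, ∀ f ∈ Finset.range 2,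
    Chk (2 ^ a * 3 ^ b * 7 ^ c * 13 ^ d * 19 ^ e * 37 ^ f)
      (((2 ^ a * 3 ^ b * 7 ^ c * 13 ^ d * 19 ^ e * 37 ^ f : ℕ) : ℤ) % 729) ∧
    Chk (2 ^ a * 3 ^ b * 7 ^ c * 13 ^ d * 19 ^ e * 37 ^ f)
      (((2 ^ a * 3 ^ b * 7 ^ c * 13 ^ d * 19 ^ e * 37 ^ f : ℕ) : ℤ) % 729 - 729) := by
  decide +kernel

theorem exists_factor {D : ℕ} (h : D ∣ NN) : ∃ a ∈ Finset.range 4, ∃ b ∈ Finset.range 10,
    ∃ c ∈ Finset.range 2, ∃ d ∈ Finset.range 2, ∃ e ∈ Finset.range 2, ∃ f ∈ Finset.range 2,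
    D = 2 ^ a * 3 ^ b * 7 ^ c * 13 ^ d * 19 ^ e * 37 ^ f := by
  have h0 : NN = 2 ^ 3 * 3 ^ 9 * 7 ^ 1 * 13 ^ 1 * 19 ^ 1 * 37 ^ 1 := by norm_num [NN]
  rw [h0] at h
  obtain ⟨y5, z5, h5, h6, rfl⟩ := (Nat.dvd_mul).1 h
  obtain ⟨y4, z4, h4, h5', rfl⟩ := (Nat.dvd_mul).1 h5
  obtain ⟨y3, z3, h3, h4', rfl⟩ := (Nat.dvd_mul).1 h4
  obtain ⟨y2, z2, h2, h3', rfl⟩ := (Nat.dvd_mul).1 h3
  obtain ⟨y1, z1, h1, h2', rfl⟩ := (Nat.dvd_mul).1 h2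
  obtain ⟨a, ha, rfl⟩ := (Nat.dvd_prime_pow Nat.prime_two).1 h1
  obtain ⟨b, hb, rfl⟩ := (Nat.dvd_prime_pow Nat.prime_three).1 h2'
  obtain ⟨c, hc, rfl⟩ := (Nat.dvd_prime_pow (by norm_num)).1 h3'
  obtain ⟨d, hd, rfl⟩ := (Nat.dvd_prime_pow (by norm_num)).1 h4'
  obtain ⟨e, he, rfl⟩ := (Nat.dvd_prime_pow (by norm_num)).1 h5'
  obtain ⟨f, hf, rfl⟩ := (Nat.dvd_prime_pow (by norm_num)).1 h6
  simp only [Finset.mem_range]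
  exact ⟨a, by omega, b, by omega, c, by omega, d, by omega, e, by omega, f, by omega, rfl⟩

/-- The pattern of the multiplicities. -/
theorem pattern {m₀ a b c : ℤ} (hne : ¬ (a = b ∧ b = c))
    (h : 19 * (m₀ ^ 2 + 6 * (a ^ 2 + b ^ 2 + c ^ 2)) - (m₀ + 6 * (a + b + c)) ^ 2 < 114) :
    ∃ m ε k : ℤ, (ε = 1 ∨ ε = -1) ∧ (k = 0 ∨ k = 1 ∨ k = -1) ∧ m₀ = m + k ∧ a + b + c = 3 * m + ε ∧
      19 * (m₀ ^ 2 + 6 * (a ^ 2 + b ^ 2 + c ^ 2)) - (m₀ + 6 * (a + b + c)) ^ 2 =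
        78 - 12 * ε * k + 18 * k ^ 2 := by
  have e1 : 19 * (m₀ ^ 2 + 6 * (a ^ 2 + b ^ 2 + c ^ 2)) - (m₀ + 6 * (a + b + c)) ^ 2 =
      6 * ((m₀ - a) ^ 2 + (m₀ - b) ^ 2 + (m₀ - c) ^ 2) + 36 * ((a - b) ^ 2 + (b - c) ^ 2 + (a - c) ^ 2) := by ring
  have h2 : (a - b) ^ 2 + (b - c) ^ 2 + (a - c) ^ 2 ≤ 3 := by
    nlinarith [sq_nonneg (m₀ - a), sq_nonneg (m₀ - b), sq_nonneg (m₀ - c)]
  have b1 : -1 ≤ a - b := by nlinarith [sq_nonneg (b - c), sq_nonneg (a - c)]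
  have b2 : a - b ≤ 1 := by nlinarith [sq_nonneg (b - c), sq_nonneg (a - c)]
  have b3 : -1 ≤ b - c := by nlinarith [sq_nonneg (a - b), sq_nonneg (a - c)]
  have b4 : b - c ≤ 1 := by nlinarith [sq_nonneg (a - b), sq_nonneg (a - c)]
  obtain ⟨u, hu⟩ : ∃ u, u = a - b := ⟨_, rfl⟩
  obtain ⟨v, hv⟩ : ∃ v, v = b - c := ⟨_, rfl⟩
  obtain ⟨w, hw⟩ : ∃ w, w = m₀ - b := ⟨_, rfl⟩
  have ha : a = b + u := by omega
  have hc : c = b - v := by omega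
  have hm : m₀ = b + w := by omega
  subst ha hc hm
  have hu1 : -1 ≤ u := by omega
  have hu2 : u ≤ 1 := by omega
  have hv1 : -1 ≤ v := by omega
  have hv2 : v ≤ 1 := by omega
  have hw2 : w ^ 2 ≤ 12 := by
    rw [e1] at h
    nlinarith [sq_nonneg (b + w - (b + u)), sq_nonneg (b + w - (b - v)), sq_nonneg u, sq_nonneg v]
  have hw3 : -3 ≤ w := by nlinarith
  have hw4 : w ≤ 3 := by nlinarith
  have e2 : 19 * ((b + w) ^ 2 + 6 * ((b + u) ^ 2 + b ^ 2 + (b - v) ^ 2)) - (b + w + 6 * (b + u + b + (b - v))) ^ 2 =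
    6 * ((w - u) ^ 2 + w ^ 2 + (w + v) ^ 2) + 36 * (u ^ 2 + v ^ 2 + (u + v) ^ 2) := by ring
  rw [e2] at h ⊢
  have hne' : ¬ (u = 0 ∧ v = 0) := by
    rintro ⟨rfl, rfl⟩
    apply hne
    constructor <;> ring
  have key : ∀ u ∈ Finset.Icc (-1 : ℤ) 1, ∀ v ∈ Finset.Icc (-1 : ℤ) 1, ∀ w ∈ Finset.Icc (-3 : ℤ) 3,
      ¬ (u = 0 ∧ v = 0) →
      6 * ((w - u) ^ 2 + w ^ 2 + (w + v) ^ 2) + 36 * (u ^ 2 + v ^ 2 + (u + v) ^ 2) < 114 →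
      ∃ s ∈ Finset.Icc (-1 : ℤ) 1, ∃ ε ∈ ({1, -1} : Finset ℤ), ∃ k ∈ ({0, 1, -1} : Finset ℤ), w = s + k ∧
        u - v = 3 * s + ε ∧ 6 * ((w - u) ^ 2 + w ^ 2 + (w + v) ^ 2) + 36 * (u ^ 2 + v ^ 2 + (u + v) ^ 2) =
          78 - 12 * ε * k + 18 * k ^ 2 := by
    decide +kernel
  obtain ⟨s, -, ε, hε, k, hk, h3, h4, h5⟩ := key u (Finset.mem_Icc.2 ⟨hu1, hu2⟩) v (Finset.mem_Icc.2 ⟨hv1, hv2⟩) w
    (Finset.mem_Icc.2 ⟨hw3, hw4⟩) hne' h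
  simp only [Finset.mem_insert, Finset.mem_singleton] at hε hk
  exact ⟨b + s, ε, k, hε, hk, by rw [h3]; ring, by linear_combination h4, h5⟩

/-- **The degree.** -/
theorem degree {D m₀ a b c k : ℕ} {x : ℤ} (hD : D = m₀ + 6 * (a + b + c)) (hdvd : D ∣ NN)
    (hx : (D : ℤ) - x = 729 * k) (hne : ¬ (a = b ∧ b = c))
    (h : (D : ℤ) ^ 2 + 88363548 * (19 * ((m₀ : ℤ) ^ 2 + 6 * ((a : ℤ) ^ 2 + b ^ 2 + c ^ 2)) - (D : ℤ) ^ 2) +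
      45375876 * (((D % 37) * (37 - D % 37) : ℕ) : ℤ) + 193720086 * (((D % 13) * (13 - D % 13) : ℕ) : ℤ) +
      511784 * x ^ 2 ≤ (NN : ℤ)) : D = 26936 ∧ m₀ = 1418 ∧ x = -37 ∧
      19 * ((m₀ : ℤ) ^ 2 + 6 * ((a : ℤ) ^ 2 + b ^ 2 + c ^ 2)) - (D : ℤ) ^ 2 = 78 := by
  have hDi : (D : ℤ) = m₀ + 6 * (a + b + c) := by rw [hD]; push_cast; ring
  have hD0 : D ≠ 0 := by rintro rfl; rw [zero_dvd_iff] at hdvd; exact absurd hdvd (by norm_num [NN])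
  have h37 : (0 : ℤ) ≤ (((D % 37) * (37 - D % 37) : ℕ) : ℤ) := Int.natCast_nonneg _
  have h13 : (0 : ℤ) ≤ (((D % 13) * (13 - D % 13) : ℕ) : ℤ) := Int.natCast_nonneg _
  have hD2 : (0 : ℤ) < (D : ℤ) ^ 2 := by positivity
  have hx2 : (0 : ℤ) ≤ x ^ 2 := sq_nonneg x
  have hNN : (NN : ℤ) = 10073444472 := rfl
  have hlt : 19 * ((m₀ : ℤ) ^ 2 + 6 * ((a : ℤ) ^ 2 + b ^ 2 + c ^ 2)) - ((m₀ : ℤ) + 6 * (a + b + c)) ^ 2 < 114 := by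
    rw [← hDi]
    rw [hNN] at h
    nlinarith
  obtain ⟨m, ε, κ, hε, hκ, e1, e2, e3⟩ := pattern (by
    rintro ⟨h1, h2⟩
    exact hne ⟨by exact_mod_cast h1, by exact_mod_cast h2⟩) hlt
  rw [← hDi] at e3
  rw [e3] at h
  have hq : 78 ≤ 78 - 12 * ε * κ + 18 * κ ^ 2 := by
    rcases hε with rfl | rfl <;> rcases hκ with rfl | rfl | rfl <;> norm_num
  have hxb : x ^ 2 ≤ 6217 := by
    rw [hNN] at h
    nlinarith
  have hx1 : -79 < x := by nlinarith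
  have hx2' : x < 79 := by nlinarith
  have hxe : x = (D : ℤ) % 729 ∨ x = (D : ℤ) % 729 - 729 := by omega
  obtain ⟨p, hp, q, hq', r, hr, s, hs, t, ht, u, hu, hfac⟩ := exists_factor hdvd
  have hc := chk_all p hp q hq' r hr s hs t ht u hu
  rw [← hfac] at hc
  have hmod : ((D : ℤ) - κ - 6 * ε) % 19 = 0 := by
    have : (D : ℤ) - κ - 6 * ε = 19 * m := by
      rw [hDi, e1]
      linear_combination 6 * e2
    rw [this]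
    exact Int.mul_emod_right 19 m
  have hfin : D = 26936 ∧ ε = -1 ∧ κ = 0 ∧ x = -37 := by
    rcases hxe with rfl | rfl
    · exact hc.1 ε (by simpa using hε) κ (by simpa using hκ) hmod h
    · exact hc.2 ε (by simpa using hε) κ (by simpa using hκ) hmod h
  obtain ⟨f1, f2, f3, f4⟩ := hfin
  refine ⟨f1, ?_, f4, by rw [e3, f2, f3]; norm_num⟩
  subst f2 f3
  rw [f1] at hDi
  push_cast at hDi
  omega

end Cfsg.Agent.H388.R27
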