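import Mathlib

/-!
# Arithmetic of the restriction to the Sylow 3-subgroup (helper388)
-/

set_option autoImplicit false

namespace Cfsg.Agent.H388.R27

theorem upart {e f f' : ℕ} {τ : ℤ} (he : 27 * (e : ℤ) = 962 + 13 * τ) (hef : e = f + 26 * f')
    (h : 2 * (19683 * (f : ℤ) - 729 * e) ^ 2 ≤ 18954 * (178308 - 351 * τ ^ 2)) :
    τ = -20 ∧ e = 26 ∧ f = 0 := by
  have h1 : τ ^ 2 ≤ 508 := by nlinarith [sq_nonneg (19683 * (f : ℤ) - 729 * e)]
  have h2 : -23 < τ := by nlinarith
  have h3 : τ < 23 := by nlinarith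
  have h4 : e ≤ 46 := by omega
  have h5 : τ = -20 ∨ τ = 7 := by omega
  rcases h5 with rfl | rfl
  · have e1 : e = 26 := by omega
    subst e1
    have : f = 0 ∨ f = 26 := by omega
    rcases this with rfl | rfl
    · exact ⟨rfl, rfl, rfl⟩
    · norm_num at h
  · have e1 : e = 39 := by omega
    subst e1
    have : f = 39 ∨ f = 13 := by omega
    rcases this with rfl | rfl <;> norm_num at h

end Cfsg.Agent.H388.R27
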