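import Mathlib

/-!
# Sums of class functions over the conjugates of a TI subgroup (helper388)
-/

set_option autoImplicit false

namespace Cfsg.Agent.H388.R27

open Finset

variable {G : Type*} [Group G] [Fintype G] {A : Type*} [AddCommMonoid A]

/-- The nonidentity elements conjugate to an element of `S`. -/
def conjSet (S : Subgroup G) : Set G := {g | g ≠ 1 ∧ ∃ x : G, x⁻¹ * g * x ∈ S}

open Classical in
/-- **Sums over the conjugates of a TI subgroup.** -/
theorem sum_conjSet (S N : Subgroup G) (hN : ∀ n ∈ N, ∀ x ∈ S, n⁻¹ * x * n ∈ S)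
    (hTI : ∀ x ∈ S, x ≠ 1 → ∀ g, g⁻¹ * x * g ∈ S → g ∈ N) (F : G → A)
    (hF : ∀ g x : G, F (x * g * x⁻¹) = F g) :
    Nat.card N • (∑ g : G with g ∈ conjSet S, F g) = Nat.card G • (∑ g : G with g ∈ S ∧ g ≠ 1, F g) := by
  have h1 : ∑ x : G, ∑ g : G, (if x⁻¹ * g * x ∈ S ∧ g ≠ 1 then F g else 0) =
      Nat.card G • (∑ g : G with g ∈ S ∧ g ≠ 1, F g) := by
    have h2 : ∀ x : G, ∑ g : G, (if x⁻¹ * g * x ∈ S ∧ g ≠ 1 then F g else 0) =
        ∑ g : G with g ∈ S ∧ g ≠ 1, F g := by
      intro x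
      rw [Finset.sum_filter]
      refine Fintype.sum_equiv (MulAut.conj x⁻¹).toEquiv _ _ fun g => ?_
      have e1 : (MulAut.conj x⁻¹).toEquiv g = x⁻¹ * g * x := by simp
      have e2 : F (x⁻¹ * g * x) = F g := by
        have := hF (x⁻¹ * g * x) x
        rw [← this]
        congr 1
        group
      have e3 : x⁻¹ * g * x ≠ 1 ↔ g ≠ 1 := by
        constructor
        · rintro h rfl
          exact h (by group)
        · intro h h'
          apply h
          have : g = x * (x⁻¹ * g * x) * x⁻¹ := by group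
          rw [this, h']
          group
      rw [e1, e2]
      simp only [e3]
    rw [Finset.sum_congr rfl fun x _ => h2 x, Finset.sum_const, Finset.card_univ, Nat.card_eq_fintype_card]
  rw [← h1, Finset.sum_comm]
  have h3 : ∀ g : G, ∑ x : G, (if x⁻¹ * g * x ∈ S ∧ g ≠ 1 then F g else 0) =
      if g ∈ conjSet S then Nat.card N • F g else 0 := by
    intro g
    by_cases hg : g ∈ conjSet S
    · rw [if_pos hg]
      obtain ⟨hg1, x₀, hx₀⟩ := hg
      rw [← Finset.sum_filter, Finset.sum_const]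
      congr 1
      have hs1 : x₀⁻¹ * g * x₀ ≠ 1 := by
        intro h'
        apply hg1
        have : g = x₀ * (x₀⁻¹ * g * x₀) * x₀⁻¹ := by group
        rw [this, h']
        group
      rw [Nat.card_eq_fintype_card, ← Fintype.card_coe]
      refine Fintype.card_congr ?_
      refine
        { toFun := fun x => ⟨x₀⁻¹ * x.1, ?_⟩
          invFun := fun n => ⟨x₀ * n.1, ?_⟩
          left_inv := fun x => Subtype.ext (by simp)
          right_inv := fun x => Subtype.ext (by simp) }
      · have hx := (Finset.mem_filter.1 x.2).2.1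
        refine hTI _ hx₀ hs1 _ ?_
        have : (x₀⁻¹ * x.1)⁻¹ * (x₀⁻¹ * g * x₀) * (x₀⁻¹ * x.1) = x.1⁻¹ * g * x.1 := by group
        rw [this]
        exact hx
      · rw [Finset.mem_filter]
        refine ⟨Finset.mem_univ _, ?_, hg1⟩
        have h4 := hN n.1 n.2 _ hx₀
        have : (x₀ * n.1)⁻¹ * g * (x₀ * n.1) = n.1⁻¹ * (x₀⁻¹ * g * x₀) * n.1 := by group
        rw [this]
        exact h4
    · rw [if_neg hg]
      refine Finset.sum_eq_zero fun x _ => ?_
      rw [if_neg]
      rintro ⟨h4, h5⟩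
      exact hg ⟨h5, x, h4⟩
  rw [Finset.sum_congr rfl fun g _ => h3 g, ← Finset.sum_filter, Finset.sum_nsmul]

theorem conjSet_orderOf {S : Subgroup G} {g : G} (hg : g ∈ conjSet S) : orderOf g ∣ Nat.card S ∧ orderOf g ≠ 1 := by
  obtain ⟨h1, x, hx⟩ := hg
  refine ⟨?_, fun h => h1 (orderOf_eq_one_iff.1 h)⟩
  have h2 : orderOf (x⁻¹ * g * x) = orderOf g := by
    have := MulEquiv.orderOf_eq (MulAut.conj x⁻¹) g
    rw [MulAut.conj_apply, inv_inv] at this
    exact this
  rw [← h2]
  exact Subgroup.orderOf_dvd_natCard S hx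

/-- Conjugate sets of subgroups of coprime orders are disjoint. -/
theorem disjoint_conjSet {S T : Subgroup G} (h : Nat.Coprime (Nat.card S) (Nat.card T)) :
    Disjoint (conjSet S) (conjSet T) := by
  rw [Set.disjoint_left]
  intro g h1 h2
  have h3 := Nat.dvd_gcd (conjSet_orderOf h1).1 (conjSet_orderOf h2).1
  rw [h] at h3
  exact (conjSet_orderOf h1).2 (Nat.dvd_one.1 h3)

end Cfsg.Agent.H388.R27
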