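import Mathlib
import Cfsg.Agent.LieRecognition.ReeSetup
import Cfsg.Agent.Characters.Linear
import Cfsg.Agent.Characters.Core
import Cfsg.Agent.Characters.GaloisIrr
import Cfsg.Agent.Blocks.Central

/-!
# Restriction of characters of `²G₂(27)` to the Sylow 3-subgroup (helper388)
-/

set_option autoImplicit false
set_option linter.unusedSectionVars false

namespace Cfsg.Agent.H388.R27

open Cfsg Finset
open Cfsg.Agent.LieRecognition
open Cfsg.Agent.Characters.Core
open scoped ComplexConjugate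

variable {K : Type*} [Field K] [Fintype K] {G : Type*} [Group G] [Fintype G]
  {U : K → K → K → G} {h : Kˣ → G} {n : G}

theorem pow26 (hK : Fintype.card K = 27) (a : Kˣ) : a ^ 26 = 1 := by
  classical
  have h1 := pow_card_eq_one (x := a)
  rw [Fintype.card_units, hK] at h1
  exact h1

theorem char3 (hK : Fintype.card K = 27) : (3 : K) = 0 := by
  have := ReeSplit.three_eq_zero (K := K) (m := 1) (by rw [hK]; norm_num)
  exact this

open Classical in
theorem sum_split {A : Type*} [AddCommMonoid A] (f : K → A) :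
    ∑ t : K, f t = f 0 + ∑ t : K with t ≠ 0, f t := by
  rw [Finset.filter_ne' univ (0 : K), Finset.add_sum_erase univ f (mem_univ 0)]

section sums

variable (D : ReeAbs.Data 1 U h n)

/-- parametrisation of `uSub` -/
noncomputable def uEquiv : K × K × K ≃ ReeSylowThree.uSub D :=
  Equiv.ofBijective (fun x => ⟨U x.1 x.2.1 x.2.2, x.1, x.2.1, x.2.2, rfl⟩) (by
    constructor
    · rintro ⟨t, u, v⟩ ⟨t', u', v'⟩ he
      obtain ⟨rfl, rfl, rfl⟩ := ReeSylowThree.U_injective D (congrArg Subtype.val he)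
      rfl
    · rintro ⟨g, t, u, v, rfl⟩
      exact ⟨(t, u, v), rfl⟩)

theorem uEquiv_coe (x : K × K × K) : (uEquiv D x : G) = U x.1 x.2.1 x.2.2 := rfl

theorem sum_uSub' {A : Type*} [AddCommMonoid A] [Fintype (ReeSylowThree.uSub D)] (F : G → A) :
    ∑ x : ReeSylowThree.uSub D, F x = ∑ t : K, ∑ u : K, ∑ v : K, F (U t u v) := by
  rw [← Equiv.sum_comp (uEquiv D), Fintype.sum_prod_type]
  refine Finset.sum_congr rfl fun t _ => ?_
  rw [Fintype.sum_prod_type]
  rfl

include D in
theorem U_ne_one {t u v : K} (hne : ¬ (t = 0 ∧ u = 0 ∧ v = 0)) : U t u v ≠ 1 := by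
  intro h1
  apply hne
  exact ReeSylowThree.U_injective D (h1.trans D.U_zero.symm)

open Classical in
theorem sum_uSub {A : Type*} [AddCommMonoid A] (F : G → A) :
    ∑ g : G with g ∈ ReeSylowThree.uSub D ∧ g ≠ 1, F g =
      (∑ v : K with v ≠ 0, F (U 0 0 v)) + (∑ u : K with u ≠ 0, ∑ v : K, F (U 0 u v)) +
        ∑ t : K with t ≠ 0, ∑ u : K, ∑ v : K, F (U t u v) := by
  let F' : G → A := fun g => if g ≠ 1 then F g else 0
  have h1 : ∑ g : G with g ∈ ReeSylowThree.uSub D ∧ g ≠ 1, F g = ∑ x : ReeSylowThree.uSub D, F' x := by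
    rw [← Finset.sum_subtype (univ.filter fun g => g ∈ ReeSylowThree.uSub D) (fun x => by simp) F',
      ← Finset.filter_filter, Finset.sum_filter]
  have h2 : ∀ {t u v : K}, ¬ (t = 0 ∧ u = 0 ∧ v = 0) → F' (U t u v) = F (U t u v) := fun hne =>
    if_pos (U_ne_one D hne)
  have h3 : F' (U 0 0 0) = 0 := if_neg (not_not.2 D.U_zero)
  rw [h1, sum_uSub' D F', sum_split, sum_split (fun u => ∑ v : K, F' (U 0 u v)),
    sum_split (fun v => F' (U 0 0 v)), h3, zero_add]
  congr 1
  · congr 1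
    · refine Finset.sum_congr rfl fun v hv => h2 ?_
      rintro ⟨-, -, h4⟩
      exact (Finset.mem_filter.1 hv).2 h4
    · refine Finset.sum_congr rfl fun u hu => Finset.sum_congr rfl fun v _ => h2 ?_
      rintro ⟨-, h4, -⟩
      exact (Finset.mem_filter.1 hu).2 h4
  · refine Finset.sum_congr rfl fun t ht => Finset.sum_congr rfl fun u _ => Finset.sum_congr rfl fun v _ => h2 ?_
    rintro ⟨h4, -, -⟩
    exact (Finset.mem_filter.1 ht).2 h4

end sums

section cls

variable (D : ReeAbs.Data 1 U h n) (hK : Fintype.card K = 27) {A : Type*} (F : G → A)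
  (hF : ∀ g x : G, F (x * g * x⁻¹) = F g)

include D hF in
theorem conj_h (a : Kˣ) (t u v : K) :
    F (U ((a : K) ^ 9 * t) ((a : K) ^ 12 * u) ((a : K) ^ 21 * v)) = F (U t u v) := by
  have h1 := D.h_U a t u v
  norm_num at h1
  rw [← hF (U t u v) (h a), h1, mul_inv_cancel_right]

include D hF in
theorem conj_t (t u v : K) : F (U 0 u (v + u * t)) = F (U 0 u v) := by
  rw [← hF (U 0 u v) (U t 0 0)]
  congr 1
  rw [eq_mul_inv_iff_mul_eq, D.U_mul, D.U_mul]
  congr 1 <;> simp

include D hF in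
theorem class_v {u : K} (hu : u ≠ 0) (v : K) : F (U 0 u v) = F (U 0 u 0) := by
  have h1 := conj_t D F hF (u⁻¹ * v) u 0
  rw [zero_add, mul_inv_cancel_left₀ hu] at h1
  exact h1

include D hK hF in
theorem class_z {v : K} (hv : v ≠ 0) : F (U 0 0 v) = F (U 0 0 1) := by
  let a : Kˣ := (Units.mk0 v hv) ^ 5
  have h1 := conj_h D F hF a 0 0 1
  have h2 : (a : K) ^ 21 = v := by
    have h3 : (Units.mk0 v hv) ^ 105 = Units.mk0 v hv := by
      rw [show 105 = 26 * 4 + 1 by norm_num, pow_add, pow_mul, pow26 hK, one_pow, one_mul, pow_one]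
    have h4 := congrArg Units.val h3
    simpa [a, ← pow_mul] using h4
  rw [h2, mul_zero, mul_zero, mul_one] at h1
  exact h1

include D hK hF in
theorem class_u_sq (b : Kˣ) (w : K) : F (U 0 ((b : K) ^ 2 * w) 0) = F (U 0 w 0) := by
  have h1 := conj_h D F hF (b ^ 11) 0 w 0
  have h2 : ((b ^ 11 : Kˣ) : K) ^ 12 = (b : K) ^ 2 := by
    have h3 : b ^ 132 = b ^ 2 := by
      rw [show 132 = 26 * 5 + 2 by norm_num, pow_add, pow_mul, pow26 hK, one_pow, one_mul]
    have h4 := congrArg Units.val h3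
    simpa [← pow_mul] using h4
  rw [h2, mul_zero, mul_zero] at h1
  exact h1

include D hK hF in
theorem class_u {u : K} (hu : u ≠ 0) :
    (F (U 0 u 0) = F (U 0 1 0) ∧ F (U 0 (-u) 0) = F (U 0 (-1) 0)) ∨
    (F (U 0 u 0) = F (U 0 (-1) 0) ∧ F (U 0 (-u) 0) = F (U 0 1 0)) := by
  obtain ⟨b, hb | hb⟩ := ReeAbs.exists_sq_or_neg (m := 1) (K := K) (by rw [hK]; norm_num) (Units.mk0 u hu)
  · left
    have e : u = (b : K) ^ 2 * 1 := by
      have := congrArg Units.val hb
      rw [Units.val_mk0, Units.val_mul] at this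
      rw [this]; ring
    have e' : -u = (b : K) ^ 2 * (-1) := by rw [e]; ring
    rw [e', e, class_u_sq D hK F hF, class_u_sq D hK F hF]
    exact ⟨rfl, rfl⟩
  · right
    have e : u = (b : K) ^ 2 * (-1) := by
      have := congrArg Units.val hb
      rw [Units.val_mk0, Units.val_neg, Units.val_mul] at this
      rw [this]; ring
    have e' : -u = (b : K) ^ 2 * 1 := by rw [e]; ring
    rw [e', e, class_u_sq D hK F hF, class_u_sq D hK F hF]
    exact ⟨rfl, rfl⟩

include D hK hF in
/-- Sums over the cosets of the subgroup `t = 0`. -/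
theorem sum_coset [AddCommMonoid A] {t : K} (ht : t ≠ 0) :
    ∑ u : K, ∑ v : K, F (U t u v) = ∑ u : K, ∑ v : K, F (U 1 u v) := by
  let a : Kˣ := (Units.mk0 t ht) ^ 3
  have h2 : (a : K) ^ 9 = t := by
    have h3 : (Units.mk0 t ht) ^ 27 = Units.mk0 t ht := by
      rw [show 27 = 26 * 1 + 1 by norm_num, pow_add, pow_mul, pow26 hK, one_pow, one_mul, pow_one]
    have h4 := congrArg Units.val h3
    simpa [a, ← pow_mul] using h4
  symm
  rw [← Fintype.sum_prod_type', ← Fintype.sum_prod_type']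
  refine Fintype.sum_equiv ((Units.mulLeft (a ^ 12)).prodCongr (Units.mulLeft (a ^ 21))) _ _ fun x => ?_
  have h1 := conj_h D F hF a 1 x.1 x.2
  rw [h2, mul_one] at h1
  rw [← h1]
  simp

end cls

end Cfsg.Agent.H388.R27
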