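import Mathlib
import Cfsg.Agent.H388.R27.Uch

/-!
# Numerical data of the restriction of a character of `²G₂(27)` to the Sylow 3-subgroup (helper388)
-/

set_option autoImplicit false
set_option linter.unusedSectionVars false

namespace Cfsg.Agent.H388.R27

open Cfsg Finset
open Cfsg.Agent.LieRecognition
open Cfsg.Agent.Characters.Core
open scoped ComplexConjugate

variable {K : Type*} [Field K] [Fintype K] {G : Type*} [Group G] [Fintype G]
  {U : K → K → K → G} {h : Kˣ → G} {n : G}

/-- a nontrivial additive character -/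
theorem exists_addChar (K : Type*) [Field K] [Fintype K] : ∃ ψ : AddChar K ℂ, ∑ v, ψ v = 0 ∧ ∑ v, conj (ψ v) = 0 := by
  classical
  have h1 : (AddChar.FiniteField.primitiveChar_to_Complex K) ≠ 1 := by
    intro h2
    have h3 := AddChar.FiniteField.primitiveChar_to_Complex_isPrimitive K (a := 1) one_ne_zero
    rw [h2] at h3
    exact h3 (by ext; simp)
  refine ⟨AddChar.FiniteField.primitiveChar_to_Complex K, AddChar.sum_eq_zero_of_ne_one h1, ?_⟩
  rw [← map_sum, AddChar.sum_eq_zero_of_ne_one h1, map_zero]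

section homs

variable (D : ReeAbs.Data 1 U h n)

/-- the subgroup `U 0 u v` as a homomorphic image -/
def pHom : Multiplicative (K × K) →* G where
  toFun x := U 0 (Multiplicative.toAdd x).1 (Multiplicative.toAdd x).2
  map_one' := D.U_zero
  map_mul' x y := by
    rw [D.U_mul]
    simp

/-- the subgroup `U 0 0 v` as a homomorphic image -/
def zHom : Multiplicative K →* G where
  toFun x := U 0 0 (Multiplicative.toAdd x)
  map_one' := D.U_zero
  map_mul' x y := by
    rw [D.U_mul]
    simp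

/-- the first coordinate -/
noncomputable def tHom : ReeSylowThree.uSub D →* Multiplicative K where
  toFun x := Multiplicative.ofAdd ((uEquiv D).symm x).1
  map_one' := by
    have : (uEquiv D).symm 1 = (0, 0, 0) := by
      rw [Equiv.symm_apply_eq]
      exact Subtype.ext D.U_zero.symm
    rw [this]
    rfl
  map_mul' x y := by
    obtain ⟨x', rfl⟩ := (uEquiv D).surjective x
    obtain ⟨y', rfl⟩ := (uEquiv D).surjective y
    rw [Equiv.symm_apply_apply, Equiv.symm_apply_apply]
    have : (uEquiv D).symm (uEquiv D x' * uEquiv D y') =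
        (x'.1 + y'.1, x'.2.1 + y'.2.1 - x'.1 * y'.1 ^ (3 ^ (1 + 1)),
          x'.2.2 + y'.2.2 - x'.2.1 * y'.1 - x'.1 ^ 2 * y'.1 ^ (3 ^ (1 + 1)) + x'.1 * y'.1 * y'.1 ^ (3 ^ (1 + 1))) := by
      rw [Equiv.symm_apply_eq]
      exact Subtype.ext (D.U_mul _ _ _ _ _ _)
    rw [this]
    rfl

theorem tHom_apply (t u v : K) : tHom D (uEquiv D (t, u, v)) = Multiplicative.ofAdd t := by
  change Multiplicative.ofAdd ((uEquiv D).symm (uEquiv D (t, u, v))).1 = _
  rw [Equiv.symm_apply_apply]

end homs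

section data

variable (D : ReeAbs.Data 1 U h n) (hK : Fintype.card K = 27)

include D hK in
/-- pairing of the restriction to `U 0 0 v` with the trivial character -/
theorem exists_z {θ : G → ℂ} (hθ : IsCharacter (Multiplicative K) (θ ∘ zHom D)) :
    ∃ a : ℕ, ∑ v : K, θ (U 0 0 v) = 27 * a := by
  classical
  obtain ⟨a, ha⟩ := classInner_isNat hθ isCharacter_one
  refine ⟨a, ?_⟩
  rw [← ha, classInner]
  have h27 : (Nat.card (Multiplicative K) : ℂ) = 27 := by
    rw [Nat.card_congr (Multiplicative.toAdd (α := K)), Nat.card_eq_fintype_card, hK]; norm_num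
  rw [h27, mul_inv_cancel_left₀ (by norm_num)]
  rw [← Equiv.sum_comp (Multiplicative.ofAdd (α := K))]
  exact Finset.sum_congr rfl fun v _ => by simp [zHom]

include D hK in
theorem exists_u {θ : G → ℂ} (hθ : IsCharacter (ReeSylowThree.uSub D) (θ ∘ (ReeSylowThree.uSub D).subtype)) :
    ∃ a : ℕ, ∑ t : K, ∑ u : K, ∑ v : K, θ (U t u v) = 19683 * a := by
  classical
  obtain ⟨a, ha⟩ := classInner_isNat hθ isCharacter_one
  refine ⟨a, ?_⟩
  rw [← ha, classInner]
  have h27 : (Nat.card (ReeSylowThree.uSub D) : ℂ) = 19683 := by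
    rw [ReeSylowThree.card_uSub, hK]; norm_num
  rw [h27, mul_inv_cancel_left₀ (by norm_num), ← sum_uSub' D]
  exact Finset.sum_congr rfl fun v _ => by simp

open Classical in
include D hK in
/-- **The data of the restriction to the Sylow 3-subgroup.** -/
theorem u_data {χ : G → ℂ} (hχ : IsCharacter G χ) {d : ℕ} (hd : χ 1 = d) :
    ∃ (x τ : ℤ) (k e f f' : ℕ), (∀ v, v ≠ 0 → χ (U 0 0 v) = x) ∧ (d : ℤ) - x = 729 * k ∧
      (∑ u : K with u ≠ 0, ∑ v : K, χ (U 0 u v)) = 351 * (τ : ℂ) ∧ (d : ℤ) + 26 * x + 351 * τ = 729 * e ∧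
      (∑ t : K with t ≠ 0, ∑ u : K, ∑ v : K, χ (U t u v)) = 19683 * (f : ℂ) - 729 * e ∧ e = f + 26 * f' := by
  classical
  have hF : ∀ g x : G, χ (x * g * x⁻¹) = χ g := isCharacter_isClassFunction hχ
  obtain ⟨ψ, hψ, hψ'⟩ := exists_addChar K
  have hU0 : χ (U 0 0 0) = d := by rw [D.U_zero, hd]
  have c26 : (univ.filter fun v : K => v ≠ 0).card = 26 := by
    rw [Finset.filter_ne' univ (0 : K), Finset.card_erase_of_mem (mem_univ 0), Finset.card_univ, hK]
  -- `U 0 0 v`
  set X : ℂ := χ (U 0 0 1) with hX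
  have hz : ∀ v, v ≠ 0 → χ (U 0 0 v) = X := fun v hv => class_z D hK χ hF hv
  -- pairing with the character `μ`
  have hk : ∃ k : ℕ, (d : ℂ) - X = 729 * k := by
    have h1 : IsCharacter (Multiplicative (K × K)) (χ ∘ pHom D) := isCharacter_comp _ hχ
    have h2 : IsCharacter (Multiplicative (K × K)) (fun g =>
        (((ψ.toMonoidHom.comp (AddMonoidHom.toMultiplicative (AddMonoidHom.snd K K))).toHomUnits g : ℂˣ) : ℂ)) :=
      Cfsg.Agent.Characters.Linear.isCharacter_hom _
    obtain ⟨k, hk⟩ := classInner_isNat h1 h2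
    refine ⟨k, ?_⟩
    rw [← hk, classInner]
    have hc : (Nat.card (Multiplicative (K × K)) : ℂ) = 729 := by
      rw [Nat.card_congr (Multiplicative.toAdd (α := K × K)), Nat.card_prod, Nat.card_eq_fintype_card, hK]; norm_num
    rw [hc, mul_inv_cancel_left₀ (by norm_num), ← Equiv.sum_comp (Multiplicative.ofAdd (α := K × K)),
      Fintype.sum_prod_type]
    have e1 : ∀ u v : K, (χ ∘ pHom D) (Multiplicative.ofAdd (u, v)) *
        conj ((((ψ.toMonoidHom.comp (AddMonoidHom.toMultiplicative (AddMonoidHom.snd K K))).toHomUnits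
          (Multiplicative.ofAdd (u, v)) : ℂˣ) : ℂ)) = χ (U 0 u v) * conj (ψ v) := fun u v => rfl
    simp only [e1]
    rw [sum_split]
    have e2 : ∑ u : K with u ≠ 0, ∑ v : K, χ (U 0 u v) * conj (ψ v) = 0 := by
      refine Finset.sum_eq_zero fun u hu => ?_
      have hu' := (Finset.mem_filter.1 hu).2
      have e3 : ∀ v, χ (U 0 u v) * conj (ψ v) = χ (U 0 u 0) * conj (ψ v) := fun v => by
        rw [class_v D χ hF hu' v]
      rw [Finset.sum_congr rfl fun v _ => e3 v, ← Finset.mul_sum, hψ', mul_zero]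
    rw [e2, add_zero]
    have e4 : ∀ v, χ (U 0 0 v) * conj (ψ v) = X * conj (ψ v) + if v = 0 then (d : ℂ) - X else 0 := by
      intro v
      split_ifs with hv
      · rw [hv, hU0, AddChar.map_zero_eq_one, map_one]; ring
      · rw [hz v hv, add_zero]
    rw [Finset.sum_congr rfl fun v _ => e4 v, Finset.sum_add_distrib, ← Finset.mul_sum, hψ', mul_zero, zero_add,
      Finset.sum_ite_eq' univ (0 : K), if_pos (mem_univ _)]
  obtain ⟨k, hk⟩ := hk
  obtain ⟨x, hx⟩ : ∃ x : ℤ, X = x := ⟨(d : ℤ) - 729 * k, by push_cast; linear_combination hk * (-1)⟩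
  -- the sum over `U 0 u v`
  have he : ∃ e : ℕ, ∑ u : K, ∑ v : K, χ (U 0 u v) = 729 * e := by
    have h1 : IsCharacter (Multiplicative (K × K)) (χ ∘ pHom D) := isCharacter_comp _ hχ
    obtain ⟨e, he⟩ := classInner_isNat h1 isCharacter_one
    refine ⟨e, ?_⟩
    rw [← he, classInner]
    have hc : (Nat.card (Multiplicative (K × K)) : ℂ) = 729 := by
      rw [Nat.card_congr (Multiplicative.toAdd (α := K × K)), Nat.card_prod, Nat.card_eq_fintype_card, hK]; norm_num
    rw [hc, mul_inv_cancel_left₀ (by norm_num), ← Equiv.sum_comp (Multiplicative.ofAdd (α := K × K)),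
      Fintype.sum_prod_type]
    exact Finset.sum_congr rfl fun u _ => Finset.sum_congr rfl fun v _ => by simp [pHom]
  obtain ⟨e, he⟩ := he
  have hs0 : ∑ v : K, χ (U 0 0 v) = d + 26 * X := by
    rw [sum_split, hU0, Finset.sum_congr rfl fun v hv => hz v (Finset.mem_filter.1 hv).2, Finset.sum_const, c26,
      nsmul_eq_mul]
    norm_num
  set T : ℂ := χ (U 0 1 0) + χ (U 0 (-1) 0) with hT
  have hsT : ∑ u : K with u ≠ 0, ∑ v : K, χ (U 0 u v) = 351 * T := by
    have e1 : ∀ u ∈ univ.filter (fun u : K => u ≠ 0), ∑ v : K, χ (U 0 u v) = 27 * χ (U 0 u 0) := by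
      intro u hu
      rw [Finset.sum_congr rfl fun v _ => class_v D χ hF (Finset.mem_filter.1 hu).2 v, Finset.sum_const,
        Finset.card_univ, hK, nsmul_eq_mul]
      norm_num
    have e2 : ∑ u : K with u ≠ 0, χ (U 0 u 0) = 13 * T := by
      have e3 : ∑ u : K with u ≠ 0, χ (U 0 (-u) 0) = ∑ u : K with u ≠ 0, χ (U 0 u 0) := by
        refine Finset.sum_equiv (Equiv.neg K) (fun u => ?_) (fun u _ => rfl)
        simp
      have e4 : ∑ u : K with u ≠ 0, (χ (U 0 u 0) + χ (U 0 (-u) 0)) = 26 * T := by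
        rw [Finset.sum_congr rfl fun u hu => show χ (U 0 u 0) + χ (U 0 (-u) 0) = T by
          rcases class_u D hK χ hF (Finset.mem_filter.1 hu).2 with ⟨h1, h2⟩ | ⟨h1, h2⟩
          · rw [h1, h2]
          · rw [h1, h2, add_comm], Finset.sum_const, c26, nsmul_eq_mul]
        norm_num
      rw [Finset.sum_add_distrib, e3] at e4
      linear_combination (1 / 2 : ℂ) * e4
    rw [Finset.sum_congr rfl e1, ← Finset.mul_sum, e2]
    ring
  have hsum : (d : ℂ) + 26 * X + 351 * T = 729 * e := by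
    rw [← he, sum_split, hs0, hsT]
  have hTint : IsIntegral ℤ T :=
    (Cfsg.Agent.Characters.GaloisBasic.isIntegral_apply hχ _).add
      (Cfsg.Agent.Characters.GaloisBasic.isIntegral_apply hχ _)
  obtain ⟨τ, hτ⟩ := Cfsg.Agent.Characters.GaloisBasic.exists_int_of_isIntegral hTint
    ⟨(729 * e - d - 26 * x : ℚ) / 351, by
      rw [hx] at hsum
      push_cast
      rw [eq_div_iff (by norm_num)]
      linear_combination hsum⟩
  -- the whole of `uSub`
  have hχU : IsCharacter (ReeSylowThree.uSub D) (χ ∘ (ReeSylowThree.uSub D).subtype) := isCharacter_comp _ hχ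
  obtain ⟨f, hf⟩ := exists_u D hK hχU
  set S₁ : ℂ := ∑ u : K, ∑ v : K, χ (U 1 u v) with hS₁
  have hco : ∀ t, t ≠ 0 → ∑ u : K, ∑ v : K, χ (U t u v) = S₁ := fun t ht => sum_coset D hK χ hF ht
  have hSt : ∑ t : K with t ≠ 0, ∑ u : K, ∑ v : K, χ (U t u v) = 26 * S₁ := by
    rw [Finset.sum_congr rfl fun t ht => hco t (Finset.mem_filter.1 ht).2, Finset.sum_const, c26, nsmul_eq_mul]
    norm_num
  have hf2 : (729 : ℂ) * e + 26 * S₁ = 19683 * f := by
    rw [← hf, sum_split, he, hSt]
  have hf' : ∃ f' : ℕ, (729 : ℂ) * e - S₁ = 19683 * f' := by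
    have h2 : IsCharacter (ReeSylowThree.uSub D) (fun g => (((ψ.toMonoidHom.comp (tHom D)).toHomUnits g : ℂˣ) : ℂ)) :=
      Cfsg.Agent.Characters.Linear.isCharacter_hom _
    obtain ⟨f', hf'⟩ := classInner_isNat hχU h2
    refine ⟨f', ?_⟩
    have h27 : (Nat.card (ReeSylowThree.uSub D) : ℂ) = 19683 := by
      rw [ReeSylowThree.card_uSub, hK]; norm_num
    rw [← hf', classInner, h27, mul_inv_cancel_left₀ (by norm_num), ← Equiv.sum_comp (uEquiv D),
      Fintype.sum_prod_type]
    have e1 : ∀ t : K, ∑ y : K × K, (χ ∘ (ReeSylowThree.uSub D).subtype) (uEquiv D (t, y)) *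
        conj ((((ψ.toMonoidHom.comp (tHom D)).toHomUnits (uEquiv D (t, y)) : ℂˣ) : ℂ)) =
        (∑ u : K, ∑ v : K, χ (U t u v)) * conj (ψ t) := by
      intro t
      rw [Fintype.sum_prod_type, Finset.sum_mul]
      refine Finset.sum_congr rfl fun u _ => ?_
      rw [Finset.sum_mul]
      refine Finset.sum_congr rfl fun v _ => ?_
      have e2 : ((((ψ.toMonoidHom.comp (tHom D)).toHomUnits (uEquiv D (t, u, v)) : ℂˣ) : ℂ)) = ψ t := by
        change ψ (Multiplicative.toAdd (tHom D (uEquiv D (t, u, v)))) = ψ t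
        rw [tHom_apply]
        rfl
      rw [e2]
      rfl
    rw [Finset.sum_congr rfl fun t _ => e1 t]
    have e3 : ∀ t : K, (∑ u : K, ∑ v : K, χ (U t u v)) * conj (ψ t) =
        S₁ * conj (ψ t) + if t = 0 then (729 : ℂ) * e - S₁ else 0 := by
      intro t
      split_ifs with ht
      · rw [ht, he, AddChar.map_zero_eq_one, map_one]; ring
      · rw [hco t ht, add_zero]
    rw [Finset.sum_congr rfl fun t _ => e3 t, Finset.sum_add_distrib, ← Finset.mul_sum, hψ', mul_zero, zero_add,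
      Finset.sum_ite_eq' univ (0 : K), if_pos (mem_univ _)]
  obtain ⟨f', hf'⟩ := hf'
  refine ⟨x, τ, k, e, f, f', fun v hv => by rw [hz v hv, hx], ?_, by rw [hsT, hτ], ?_, ?_, ?_⟩
  · rw [hx] at hk
    exact_mod_cast hk
  · rw [hx, hτ] at hsum
    exact_mod_cast hsum
  · rw [hSt]
    linear_combination hf2
  · have h5 : (729 : ℂ) * (27 * e) = 729 * (27 * (f + 26 * f')) := by linear_combination hf2 + 26 * hf'
    have h6 : (e : ℂ) = f + 26 * f' := by
      have h7 := mul_left_cancel₀ (by norm_num : (729 : ℂ) ≠ 0) h5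
      exact mul_left_cancel₀ (by norm_num : (27 : ℂ) ≠ 0) h7
    exact_mod_cast h6

end data

end Cfsg.Agent.H388.R27
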