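import Mathlib
import Cfsg.Agent.Blocks.CyclicUpper
import Cfsg.Agent.Characters.GaloisIrr

/-!
# Restriction of characters to a subgroup of order 19 with normaliser quotient of order 6 (helper388)
-/

set_option autoImplicit false

namespace Cfsg.Agent.H388.R27

open Cfsg ZMod Finset
open Cfsg.Agent.Blocks.CyclicUpper Cfsg.Agent.Blocks.CyclicGroup Cfsg.Agent.Blocks.CyclicGram
open Cfsg.Agent.Characters.Core
open scoped ComplexConjugate

variable {G : Type*} [Group G] [Finite G]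

section general

variable {p : ℕ} [hp : Fact p.Prime]

/-- Multiplicities, with inversion and Parseval. -/
theorem exists_mults (χ : IrrCharacter G) {z : G} (hz : orderOf z = p) :
    ∃ n : ZMod p → ℕ,
      (∀ m : ZMod p, (χ : G → ℂ) (u z m) = ∑ i : ZMod p, (n i : ℂ) * (stdAddChar (i * m) : ℂ)) ∧
      (∑ m : ZMod p, (χ : G → ℂ) (u z m) = p * (n 0 : ℂ)) ∧
      (∑ m : ZMod p, (χ : G → ℂ) (u z m) * conj ((χ : G → ℂ) (u z m)) = p * ∑ i : ZMod p, (n i : ℂ) ^ 2) ∧
      (∀ h ∈ fuse z hz, ∀ i, n ((h : ZMod p) * i) = n i) := by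
  classical
  have hp0 : (p : ℂ) ≠ 0 := Nat.cast_ne_zero.2 hp.out.ne_zero
  choose n hn using fun i => exists_mult χ hz i
  have hn' : ∀ i, ∑ m : ZMod p, (χ : G → ℂ) (u z m) * (stdAddChar (-(i * m)) : ℂ) = p * (n i : ℂ) := by
    intro i
    rw [← hn i, mul_inv_cancel_left₀ hp0]
  have hinv : ∀ m : ZMod p, (χ : G → ℂ) (u z m) = ∑ i : ZMod p, (n i : ℂ) * (stdAddChar (i * m) : ℂ) := by
    intro m
    rw [← inversion (fun m => (χ : G → ℂ) (u z m)) m]
    exact Finset.sum_congr rfl fun i _ => by rw [hn i]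
  refine ⟨n, hinv, ?_, ?_, ?_⟩
  · rw [← hn' 0]
    refine Finset.sum_congr rfl fun m _ => ?_
    simp
  · have h1 : ∀ m : ZMod p, (χ : G → ℂ) (u z m) * conj ((χ : G → ℂ) (u z m)) =
        ∑ i : ZMod p, (n i : ℂ) * conj ((χ : G → ℂ) (u z m) * (stdAddChar (-(i * m)) : ℂ)) := by
      intro m
      conv_lhs => rw [hinv m]
      rw [Finset.sum_mul, ← hinv m]
      refine Finset.sum_congr rfl fun i _ => ?_
      rw [map_mul (starRingEnd ℂ), conj_std, neg_neg]
      ring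
    rw [Finset.sum_congr rfl fun m _ => h1 m, Finset.sum_comm, Finset.mul_sum]
    refine Finset.sum_congr rfl fun i _ => ?_
    rw [← Finset.mul_sum, ← map_sum, hn' i, map_mul, Complex.conj_natCast, Complex.conj_natCast]
    ring
  · intro h hh i
    have h1 : ∑ m : ZMod p, (χ : G → ℂ) (u z m) * (stdAddChar (-((h : ZMod p) * i * m)) : ℂ) =
        ∑ m : ZMod p, (χ : G → ℂ) (u z m) * (stdAddChar (-(i * m)) : ℂ) := by
      rw [← Equiv.sum_comp (Units.mulLeft h) fun m => (χ : G → ℂ) (u z m) * (stdAddChar (-(i * m)) : ℂ)]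
      refine Finset.sum_congr rfl fun m _ => ?_
      have e1 : Units.mulLeft h m = (h : ZMod p) * m := rfl
      have e2 : (χ : G → ℂ) (u z ((h : ZMod p) * m)) = (χ : G → ℂ) (u z m) := by
        by_cases hm : m = 0
        · rw [hm, mul_zero]
        · have h3 : (h : ZMod p) * m ≠ 0 := mul_ne_zero h.ne_zero hm
          exact (Cfsg.Agent.Blocks.Basic.irr_isConj χ.2 ((isConj_u_iff hz hm h3).2 ⟨h, hh, rfl⟩)).symm
      rw [e1, e2]
      congr 3
      ring
    rw [hn', hn'] at h1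
    exact_mod_cast mul_left_cancel₀ hp0 h1

end general

instance : Fact (Nat.Prime 19) := ⟨by norm_num⟩

omit [Finite G] in
theorem mem_fuse_of_pow {z : G} (hz : orderOf z = 19) (hc : Nat.card (fuse z hz) = 6) {h : (ZMod 19)ˣ}
    (hh : h ^ 6 = 1) : h ∈ fuse z hz := by
  classical
  have : Fintype (fuse z hz) := Fintype.ofFinite _
  let S : Finset (ZMod 19)ˣ := Finset.univ.filter fun x => x ^ 6 = 1
  have hS : S.card = 6 := by decide +kernel
  let T : Finset (ZMod 19)ˣ := Finset.univ.filter fun x => x ∈ fuse z hz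
  have hT : T.card = 6 := by
    rw [← hc, Nat.card_eq_fintype_card, ← Fintype.card_subtype]
  have hTS : T ⊆ S := by
    intro x hx
    rw [Finset.mem_filter] at hx ⊢
    refine ⟨Finset.mem_univ _, ?_⟩
    have h1 : (⟨x, hx.2⟩ : fuse z hz) ^ Nat.card (fuse z hz) = 1 := pow_card_eq_one'
    rw [hc] at h1
    exact congrArg Subtype.val h1
  have h2 : T = S := Finset.eq_of_subset_of_card_le hTS (by rw [hS, hT])
  have h3 : h ∈ T := by rw [h2, Finset.mem_filter]; exact ⟨Finset.mem_univ _, hh⟩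
  exact (Finset.mem_filter.1 h3).2

theorem exists_mults19 (χ : IrrCharacter G) {z : G} (hz : orderOf z = 19)
    (hc : Nat.card (fuse z hz) = 6) :
    ∃ m₀ a b c : ℕ, (χ : G → ℂ) 1 = (m₀ + 6 * (a + b + c) : ℕ) ∧
      (∑ m : ZMod 19, (χ : G → ℂ) (u z m) = 19 * (m₀ : ℂ)) ∧
      (∑ m : ZMod 19, (χ : G → ℂ) (u z m) * conj ((χ : G → ℂ) (u z m)) =
        ((19 * (m₀ ^ 2 + 6 * (a ^ 2 + b ^ 2 + c ^ 2)) : ℕ) : ℂ)) ∧
      (a = b ∧ b = c → ∀ m n : ZMod 19, m ≠ 0 → n ≠ 0 → (χ : G → ℂ) (u z m) = (χ : G → ℂ) (u z n)) := by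
  classical
  obtain ⟨n, h1, h2, h3, h4⟩ := exists_mults χ hz
  have hinv : ∀ h : ZMod 19, h ^ 6 = 1 → ∀ i, n (h * i) = n i := by
    intro h hh i
    have hu : IsUnit h := IsUnit.of_pow_eq_one hh (by norm_num)
    obtain ⟨v, rfl⟩ := hu
    exact h4 v (mem_fuse_of_pow hz hc (Units.ext (by simpa using hh))) i
  have hv : ∀ f : ZMod 19 → ℂ, ∑ i, f i = f 0 + ((f 1 + f 7 + f 8 + f 11 + f 12 + f 18) +
      (f 2 + f 14 + f 16 + f 3 + f 5 + f 17) + (f 4 + f 9 + f 13 + f 6 + f 10 + f 15)) := by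
    intro f
    rw [show (Finset.univ : Finset (ZMod 19)) = {0, 1, 7, 8, 11, 12, 18, 2, 14, 16, 3, 5, 17, 4, 9, 13, 6, 10, 15} by
      decide +kernel]
    iterate 18 rw [Finset.sum_insert (by decide +kernel)]
    rw [Finset.sum_singleton]
    ring
  have n1 : n 7 = n 1 ∧ n 8 = n 1 ∧ n 11 = n 1 ∧ n 12 = n 1 ∧ n 18 = n 1 :=
    ⟨hinv 7 (by decide +kernel) 1, hinv 8 (by decide +kernel) 1, hinv 11 (by decide +kernel) 1,
      hinv 12 (by decide +kernel) 1, hinv 18 (by decide +kernel) 1⟩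
  have n2 : n 14 = n 2 ∧ n 16 = n 2 ∧ n 3 = n 2 ∧ n 5 = n 2 ∧ n 17 = n 2 :=
    ⟨hinv 7 (by decide +kernel) 2, hinv 8 (by decide +kernel) 2, hinv 11 (by decide +kernel) 2,
      hinv 12 (by decide +kernel) 2, hinv 18 (by decide +kernel) 2⟩
  have n4 : n 9 = n 4 ∧ n 13 = n 4 ∧ n 6 = n 4 ∧ n 10 = n 4 ∧ n 15 = n 4 :=
    ⟨hinv 7 (by decide +kernel) 4, hinv 8 (by decide +kernel) 4, hinv 11 (by decide +kernel) 4,
      hinv 12 (by decide +kernel) 4, hinv 18 (by decide +kernel) 4⟩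
  obtain ⟨p1, p2, p3, p4, p5⟩ := n1
  obtain ⟨q1, q2, q3, q4, q5⟩ := n2
  obtain ⟨r1, r2, r3, r4, r5⟩ := n4
  refine ⟨n 0, n 1, n 2, n 4, ?_, h2, ?_, ?_⟩
  · have h5 := h1 0
    rw [u_zero] at h5
    rw [h5, hv]
    simp only [mul_zero, AddChar.map_zero_eq_one, mul_one, p1, p2, p3, p4, p5, q1, q2, q3, q4, q5, r1, r2, r3, r4, r5]
    push_cast
    ring
  · rw [h3, hv]
    simp only [p1, p2, p3, p4, p5, q1, q2, q3, q4, q5, r1, r2, r3, r4, r5]
    push_cast
    ring
  · rintro ⟨e1, e2⟩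
    have hconst : ∀ m : ZMod 19, m ≠ 0 → (χ : G → ℂ) (u z m) = (n 0 : ℂ) - n 1 := by
      intro m hm
      have h6 : ∀ i : ZMod 19, (n i : ℂ) * (stdAddChar (i * m) : ℂ) =
          (n 1 : ℂ) * (stdAddChar (i * m) : ℂ) + if i = 0 then (n 0 : ℂ) - n 1 else 0 := by
        intro i
        split_ifs with hi
        · rw [hi, zero_mul, AddChar.map_zero_eq_one]
          ring
        · rw [add_zero]
          have hmem : i ∈ ({0, 1, 7, 8, 11, 12, 18, 2, 14, 16, 3, 5, 17, 4, 9, 13, 6, 10, 15} : Finset (ZMod 19)) := by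
            rw [← show (Finset.univ : Finset (ZMod 19)) = {0, 1, 7, 8, 11, 12, 18, 2, 14, 16, 3, 5, 17, 4, 9, 13, 6,
              10, 15} by decide +kernel]
            exact Finset.mem_univ _
          have hi2 : n i = n 1 := by
            simp only [Finset.mem_insert, Finset.mem_singleton] at hmem
            rcases hmem with rfl | rfl | rfl | rfl | rfl | rfl | rfl | rfl | rfl | rfl | rfl | rfl | rfl | rfl | rfl |
              rfl | rfl | rfl | rfl
            · exact absurd rfl hi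
            all_goals omega
          rw [hi2]
      rw [h1 m, Finset.sum_congr rfl fun i _ => h6 i, Finset.sum_add_distrib, ← Finset.mul_sum,
        Finset.sum_ite_eq' Finset.univ (0 : ZMod 19), if_pos (Finset.mem_univ _)]
      have h7 : ∑ i : ZMod 19, (stdAddChar (i * m) : ℂ) = 0 := by
        rw [sum_std, if_neg hm]
      rw [h7, mul_zero, zero_add]
    intro m k hm hk
    rw [hconst m hm, hconst k hk]

end Cfsg.Agent.H388.R27
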