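import Mathlib
import Cfsg.Agent.H388.R27.UData
import Cfsg.Agent.H388.R27.Y19
import Cfsg.Agent.H388.R27.TI
import Cfsg.Agent.H388.R27.Arith
import Cfsg.Agent.H388.R27.ArithU
import Cfsg.Agent.H729.Norm
import Cfsg.Agent.H125.ReeFull

/-!
# A character of degree 26936 of `²G₂(27)` (helper388)
-/

set_option autoImplicit false
set_option linter.unusedSectionVars false

namespace Cfsg.Agent.H388.R27

open Cfsg Finset
open Cfsg.Agent.LieRecognition
open Cfsg.Agent.Characters.Core
open Cfsg.Agent.Blocks.CyclicGroup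
open scoped ComplexConjugate

section tools

variable {G : Type*} [Group G] [Fintype G]

open Classical in
theorem sum_zpowers {A : Type*} [AddCommMonoid A] {p : ℕ} [Fact p.Prime] {z : G} (hz : orderOf z = p) (F : G → A) :
    ∑ g : G with g ∈ Subgroup.zpowers z, F g = ∑ m : ZMod p, F (u z m) := by
  rw [show (univ.filter fun g : G => g ∈ Subgroup.zpowers z) = univ.image (fun m : ZMod p => u z m) by
    ext g
    simp only [mem_filter, mem_univ, true_and, mem_image]
    constructor
    · intro hg
      exact exists_u_of_mem hz hg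
    · rintro ⟨m, rfl⟩
      exact u_mem z m]
  exact Finset.sum_image fun a _ b _ hab => u_injective hz hab

open Classical in
theorem sum_ne_one {A : Type*} [AddCommGroup A] (S : Subgroup G) (F : G → A) :
    ∑ g : G with g ∈ S ∧ g ≠ 1, F g = (∑ g : G with g ∈ S, F g) - F 1 := by
  rw [← Finset.filter_filter, Finset.filter_ne' (univ.filter fun g => g ∈ S) (1 : G),
    Finset.sum_erase_eq_sub (by simp [S.one_mem])]

/-- Cauchy–Schwarz. -/
theorem cs {ι : Type*} (s : Finset ι) (f : ι → ℂ) {r : ℝ} (h : ∑ i ∈ s, f i = (r : ℂ)) :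
    r ^ 2 ≤ s.card * ∑ i ∈ s, Complex.normSq (f i) := by
  have h1 : ∑ i ∈ s, (f i).re = r := by
    rw [← Complex.re_sum, h, Complex.ofReal_re]
  rw [← h1]
  refine (sq_sum_le_card_mul_sum_sq (s := s) (f := fun i => (f i).re)).trans ?_
  refine mul_le_mul_of_nonneg_left (Finset.sum_le_sum fun i _ => ?_) (Nat.cast_nonneg _)
  rw [Complex.normSq_apply]
  nlinarith [sq_nonneg (f i).im]

/-- The case of equality. -/
theorem cs_eq {ι : Type*} (s : Finset ι) (f : ι → ℂ) (h : ∑ i ∈ s, f i = -(s.card : ℂ))
    (h' : ∑ i ∈ s, Complex.normSq (f i) ≤ s.card) : ∀ i ∈ s, f i = -1 := by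
  have h1 : ∑ i ∈ s, Complex.normSq (f i + 1) ≤ 0 := by
    have h2 : ∀ i ∈ s, Complex.normSq (f i + 1) = Complex.normSq (f i) + 2 * (f i).re + 1 := by
      intro i _
      simp only [Complex.normSq_apply, Complex.add_re, Complex.one_re, Complex.add_im, Complex.one_im]
      ring
    rw [Finset.sum_congr rfl h2, Finset.sum_add_distrib, Finset.sum_add_distrib, ← Finset.mul_sum, ← Complex.re_sum, h]
    simp only [Complex.neg_re, Complex.natCast_re, Finset.sum_const, nsmul_eq_mul, mul_one]
    linarith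
  intro i hi
  have h3 := (Finset.sum_eq_zero_iff_of_nonneg (s := s) (f := fun i => Complex.normSq (f i + 1))
    fun i _ => Complex.normSq_nonneg _).1 (le_antisymm h1 (Finset.sum_nonneg fun i _ => Complex.normSq_nonneg _)) i hi
  have h4 := Complex.normSq_eq_zero.1 h3
  linear_combination h4

open Classical in
/-- splitting off the classes of the elements `1`, `S`, `T` and of the elements of order 37 and 13 -/
theorem split_le (S T : Subgroup G) (hS : Nat.card S = 19) (hT : Nat.card T = 19683) {F : G → ℝ}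
    (hF : ∀ g, 0 ≤ F g) :
    F 1 + (∑ g : G with g ∈ conjSet S, F g) + (∑ g : G with g ∈ conjSet T, F g) +
      (∑ g : G with orderOf g = 37, F g) + (∑ g : G with orderOf g = 13, F g) ≤ ∑ g, F g := by
  have h1 : F 1 = ∑ g : G, if g = 1 then F g else 0 := by
    rw [Finset.sum_ite_eq' univ (1 : G), if_pos (mem_univ _)]
  rw [h1, Finset.sum_filter, Finset.sum_filter, Finset.sum_filter, Finset.sum_filter, ← Finset.sum_add_distrib,
    ← Finset.sum_add_distrib, ← Finset.sum_add_distrib, ← Finset.sum_add_distrib]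
  refine Finset.sum_le_sum fun g _ => ?_
  by_cases hg : g = 1
  · have a1 : g ∉ conjSet S := fun h => h.1 hg
    have a2 : g ∉ conjSet T := fun h => h.1 hg
    have a3 : orderOf g ≠ 37 := by rw [hg, orderOf_one]; norm_num
    have a4 : orderOf g ≠ 13 := by rw [hg, orderOf_one]; norm_num
    rw [hg] at a1 a2 a3 a4
    simp [hg, a1, a2]
  · rw [if_neg hg]
    by_cases a1 : g ∈ conjSet S
    · have b1 : orderOf g = 19 := by
        have h2 := conjSet_orderOf a1
        rw [hS] at h2
        exact ((Nat.dvd_prime (by norm_num)).1 h2.1).resolve_left h2.2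
      have b2 : g ∉ conjSet T := by
        intro h3
        have h4 := (conjSet_orderOf h3).1
        rw [b1, hT] at h4
        revert h4; norm_num
      have b3 : orderOf g ≠ 37 := by rw [b1]; norm_num
      have b4 : orderOf g ≠ 13 := by rw [b1]; norm_num
      simp [a1, b2, b3, b4]
    · rw [if_neg a1]
      by_cases a2 : g ∈ conjSet T
      · have b3 : orderOf g ≠ 37 := by
          intro h3
          have h4 := (conjSet_orderOf a2).1
          rw [h3, hT] at h4
          revert h4; norm_num
        have b4 : orderOf g ≠ 13 := by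
          intro h3
          have h4 := (conjSet_orderOf a2).1
          rw [h3, hT] at h4
          revert h4; norm_num
        simp [a2, b3, b4]
      · rw [if_neg a2]
        by_cases a3 : orderOf g = 37
        · simp [a3]
        · by_cases a4 : orderOf g = 13
          · simp [a4]
          · simp [a3, a4, hF g]

open Classical in
/-- equality: the function vanishes elsewhere -/
theorem split_eq (S T : Subgroup G) (hS : Nat.card S = 19) (hT : Nat.card T = 19683) {F : G → ℝ}
    (hF : ∀ g, 0 ≤ F g)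
    (h : ∑ g, F g ≤ F 1 + (∑ g : G with g ∈ conjSet S, F g) + (∑ g : G with g ∈ conjSet T, F g)) {g : G}
    (h1 : g ≠ 1) (h2 : g ∉ conjSet S) (h3 : g ∉ conjSet T) : F g = 0 := by
  let F' : G → ℝ := fun x => if x = g then 0 else F x
  have hF' : ∀ x, 0 ≤ F' x := fun x => by
    by_cases hx : x = g
    · simp [F', hx]
    · simp [F', hx, hF x]
  have e0 := split_le S T hS hT hF'
  have e1 : F' 1 = F 1 := if_neg (Ne.symm h1)
  have e2 : ∑ x : G with x ∈ conjSet S, F' x = ∑ x : G with x ∈ conjSet S, F x :=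
    Finset.sum_congr rfl fun x hx => if_neg (by rintro rfl; exact h2 (Finset.mem_filter.1 hx).2)
  have e3 : ∑ x : G with x ∈ conjSet T, F' x = ∑ x : G with x ∈ conjSet T, F x :=
    Finset.sum_congr rfl fun x hx => if_neg (by rintro rfl; exact h3 (Finset.mem_filter.1 hx).2)
  have e4 : ∑ x, F x = F g + ∑ x, F' x := by
    have : ∀ x, F x = (if x = g then F x else 0) + F' x := by
      intro x
      by_cases hx : x = g
      · simp [F', hx]
      · simp [F', hx]
    rw [Finset.sum_congr rfl fun x _ => this x, Finset.sum_add_distrib, Finset.sum_ite_eq' univ g,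
      if_pos (mem_univ _)]
  have e5 : 0 ≤ ∑ x : G with orderOf x = 37, F' x := Finset.sum_nonneg fun x _ => hF' x
  have e6 : 0 ≤ ∑ x : G with orderOf x = 13, F' x := Finset.sum_nonneg fun x _ => hF' x
  rw [e1, e2, e3] at e0
  exact le_antisymm (by linarith) (hF g)

end tools

section main

variable {K : Type*} [Field K] [Fintype K] {G : Type*} [Group G] [Fintype G]
  {U : K → K → K → G} {h : Kˣ → G} {n : G}

/-- The hypotheses on the group. -/
structure Hyp (D : ReeAbs.Data 1 U h n) (z w s : G) : Prop where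
  hK : Fintype.card K = 27
  card : Nat.card G = NN
  hz : orderOf z = 19
  hzn : Nat.card (Subgroup.normalizer (Subgroup.zpowers z : Set G)) = 114
  hzc : ∀ x ∈ Subgroup.zpowers z, x ≠ 1 → Subgroup.centralizer {x} = Subgroup.zpowers z
  hw : orderOf w = 37
  hwn : Nat.card {y : G // ∃ j ∈ Ico 1 37, y * w = w ^ j * y} ≤ 222
  hs : orderOf s = 13
  hsn : Nat.card {y : G // ∃ j ∈ Ico 1 13, y * s = s ^ j * y} ≤ 52

variable {D : ReeAbs.Data 1 U h n} {z w s : G}

theorem Hyp.card_z (H : Hyp D z w s) : Nat.card (Subgroup.zpowers z) = 19 := by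
  rw [Nat.card_zpowers, H.hz]

theorem Hyp.card_fuse (H : Hyp D z w s) : Nat.card (fuse z H.hz) = 6 := by
  rw [Cfsg.Agent.Blocks.CyclicGroup.card_fuse H.hz (Subgroup.zpowers z) rfl]
  have hz1 : z ≠ 1 := by
    rintro rfl
    have := H.hz
    rw [orderOf_one] at this
    norm_num at this
  have h1 : Subgroup.centralizer (Subgroup.zpowers z : Set G) = Subgroup.zpowers z := by
    apply le_antisymm
    · have h0 : Subgroup.centralizer (Subgroup.zpowers z : Set G) ≤ Subgroup.centralizer {z} := by
        apply Subgroup.centralizer_le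
        rw [Set.singleton_subset_iff]
        exact Subgroup.mem_zpowers z
      rwa [H.hzc z (Subgroup.mem_zpowers z) hz1] at h0
    · exact Subgroup.le_centralizer _
  rw [h1]
  have h2 := Subgroup.relIndex_mul_relIndex (⊥ : Subgroup G) (Subgroup.zpowers z)
    (Subgroup.normalizer (Subgroup.zpowers z : Set G)) bot_le Subgroup.le_normalizer
  rw [Subgroup.relIndex_bot_left, Subgroup.relIndex_bot_left, H.hzn, H.card_z] at h2
  omega

theorem Hyp.conj_mem (_H : Hyp D z w s) {g : G} (hg : g ∈ Subgroup.normalizer (Subgroup.zpowers z : Set G)) {x : G}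
    (hx : x ∈ Subgroup.zpowers z) : g⁻¹ * x * g ∈ Subgroup.zpowers z := by
  have h1 := (Subgroup.mem_normalizer_iff.1 ((Subgroup.normalizer (Subgroup.zpowers z : Set G)).inv_mem hg)) x
  rw [inv_inv] at h1
  exact h1.1 hx

theorem Hyp.TI (H : Hyp D z w s) {x : G} (hx : x ∈ Subgroup.zpowers z) (hx1 : x ≠ 1) {g : G}
    (hg : g⁻¹ * x * g ∈ Subgroup.zpowers z) : g ∈ Subgroup.normalizer (Subgroup.zpowers z : Set G) :=
  Cfsg.Agent.H125.ReeFull.mem_normalizer_of_conj H.hzc hx hx1 hg

open Classical in
theorem Hyp.sum_z (H : Hyp D z w s) {A : Type*} [AddCommMonoid A] (F : G → A)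
    (hF : ∀ g x : G, F (x * g * x⁻¹) = F g) :
    114 • (∑ g : G with g ∈ conjSet (Subgroup.zpowers z), F g) =
      NN • (∑ g : G with g ∈ Subgroup.zpowers z ∧ g ≠ 1, F g) := by
  have h1 := sum_conjSet (Subgroup.zpowers z) (Subgroup.normalizer (Subgroup.zpowers z : Set G))
    (fun g hg x hx => H.conj_mem hg hx) (fun x hx hx1 g hg => H.TI hx hx1 hg) F hF
  rwa [H.hzn, H.card] at h1

open Classical in
theorem Hyp.sum_u (H : Hyp D z w s) {A : Type*} [AddCommMonoid A] (F : G → A)
    (hF : ∀ g x : G, F (x * g * x⁻¹) = F g) :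
    511758 • (∑ g : G with g ∈ conjSet (ReeSylowThree.uSub D), F g) =
      NN • (∑ g : G with g ∈ ReeSylowThree.uSub D ∧ g ≠ 1, F g) := by
  have h1 := sum_conjSet (ReeSylowThree.uSub D) (ReeSplit.bSub D)
    (fun g hg x hx => ReeSplit.inv_conj_mem_uSub D hg hx)
    (fun x hx hx1 g hg => ReeSplit.mem_bSub_of_inv_conj_mem D hx hx1 hg) F hF
  rw [ReeSplit.card_bSub, H.hK, H.card] at h1
  norm_num at h1
  exact h1

theorem Hyp.card_u (H : Hyp D z w s) : Nat.card (ReeSylowThree.uSub D) = 19683 := by
  rw [ReeSylowThree.card_uSub, H.hK]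
  norm_num

/-- There is an irreducible character which is not constant on the nonidentity powers of `z`. -/
theorem Hyp.exists_nonconst (H : Hyp D z w s) : ∃ χ : IrrCharacter G,
    ¬ ∀ m k : ZMod 19, m ≠ 0 → k ≠ 0 → (χ : G → ℂ) (u z m) = (χ : G → ℂ) (u z k) := by
  by_contra hcon
  push Not at hcon
  have h1 : IsConj (u z (1 : ZMod 19)) (u z (2 : ZMod 19)) := by
    apply Cfsg.Agent.Characters.GaloisIrr.isConj_of_forall_irr
    intro χ hχ
    exact hcon ⟨χ, hχ⟩ 1 2 (by decide) (by decide)
  rw [isConj_u_iff H.hz (by decide) (by decide)] at h1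
  obtain ⟨v, hv, hv2⟩ := h1
  rw [mul_one] at hv2
  have : Fintype (fuse z H.hz) := Fintype.ofFinite _
  have h2 : (⟨v, hv⟩ : fuse z H.hz) ^ Nat.card (fuse z H.hz) = 1 := pow_card_eq_one'
  rw [H.card_fuse] at h2
  have h3 : v ^ 6 = 1 := congrArg Subtype.val h2
  have h4 : (v : ZMod 19) ^ 6 = 1 := by
    have := congrArg Units.val h3
    simpa using this
  rw [← hv2] at h4
  revert h4
  decide

end main

end Cfsg.Agent.H388.R27
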