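import Mathlib
import Cfsg.Agent.H388.R27.Chi

/-!
# A character of degree 26936 of `²G₂(27)`: the main theorem (helper388)
-/

set_option autoImplicit false
set_option linter.unusedSectionVars false

namespace Cfsg.Agent.H388.R27

open Cfsg Finset
open Cfsg.Agent.LieRecognition
open Cfsg.Agent.Characters.Core
open Cfsg.Agent.Blocks.CyclicGroup
open scoped ComplexConjugate

variable {K : Type*} [Field K] [Fintype K] {G : Type*} [Group G] [Fintype G]
  {U : K → K → K → G} {h : Kˣ → G} {n : G} {D : ReeAbs.Data 1 U h n} {z w s : G}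

open Classical in
/-- **The character.** -/
theorem Hyp.exists_chi (H : Hyp D z w s) : ∃ χ : IrrCharacter G, (χ : G → ℂ) 1 = 26936 ∧
    (∀ v, v ≠ 0 → (χ : G → ℂ) (U 0 0 v) = -37) ∧ (∀ t, t ≠ 0 → ∀ u v, (χ : G → ℂ) (U t u v) = -1) ∧
    (∀ g, g ≠ 1 → g ∉ conjSet (Subgroup.zpowers z) → g ∉ conjSet (ReeSylowThree.uSub D) → (χ : G → ℂ) g = 0) ∧
    ∑ g : G with g ∈ Subgroup.zpowers z ∧ g ≠ 1, (χ : G → ℂ) g = 6 := by
  obtain ⟨χ, hχ⟩ := H.exists_nonconst
  have hc : IsCharacter G (χ : G → ℂ) := isIrr_isCharacter χ.2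
  have hF : ∀ g x : G, Complex.normSq ((χ : G → ℂ) (x * g * x⁻¹)) = Complex.normSq ((χ : G → ℂ) g) := fun g x => by
    rw [isCharacter_isClassFunction hc]
  obtain ⟨m₀, a, b, c, hd, hs1, hs2, hs3⟩ := exists_mults19 χ H.hz H.card_fuse
  obtain ⟨d, hdd⟩ : ∃ d : ℕ, d = m₀ + 6 * (a + b + c) := ⟨_, rfl⟩
  rw [← hdd] at hd
  have hne : ¬ (a = b ∧ b = c) := fun h => hχ (hs3 h)
  have hdvd : d ∣ NN := by
    have h1 := Cfsg.Agent.Blocks.CyclicUpper.charDegree_dvd χ.2
    have h2 : charDegree (χ : G → ℂ) = d := by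
      have := Blocks.Basic.irr_one_eq_charDegree χ.2
      rw [hd] at this
      exact_mod_cast this.symm
    rwa [h2, H.card] at h1
  obtain ⟨x, τ, k, e, f, f', hx, hxk, hτ, hτe, hf, hef⟩ := u_data D H.hK hc hd
  -- the sums over the two sets
  set F : G → ℝ := fun g => Complex.normSq ((χ : G → ℂ) g) with hFdef
  have hF0 : ∀ g, 0 ≤ F g := fun g => Complex.normSq_nonneg _
  have hF1 : F 1 = (d : ℝ) ^ 2 := by
    change Complex.normSq ((χ : G → ℂ) 1) = _
    rw [hd, Complex.normSq_natCast]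
    ring
  have hZ : ∑ g : G with g ∈ Subgroup.zpowers z ∧ g ≠ 1, F g =
      19 * ((m₀ : ℝ) ^ 2 + 6 * ((a : ℝ) ^ 2 + b ^ 2 + c ^ 2)) - (d : ℝ) ^ 2 := by
    rw [sum_ne_one, hF1, sum_zpowers H.hz]
    congr 1
    have h1 : ((∑ m : ZMod 19, F (u z m) : ℝ) : ℂ) =
        ((19 * ((m₀ : ℝ) ^ 2 + 6 * ((a : ℝ) ^ 2 + b ^ 2 + c ^ 2)) : ℝ) : ℂ) := by
      have h2 : ((∑ m : ZMod 19, F (u z m) : ℝ) : ℂ) =
          ∑ m : ZMod 19, (χ : G → ℂ) (u z m) * conj ((χ : G → ℂ) (u z m)) := by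
        push_cast
        refine Finset.sum_congr rfl fun m _ => ?_
        rw [Complex.mul_conj]
      rw [h2, hs2]
      push_cast
      ring
    exact_mod_cast h1
  have hZ' : ∑ g : G with g ∈ conjSet (Subgroup.zpowers z), F g =
      88363548 * (19 * ((m₀ : ℝ) ^ 2 + 6 * ((a : ℝ) ^ 2 + b ^ 2 + c ^ 2)) - (d : ℝ) ^ 2) := by
    have h1 := H.sum_z F hF
    rw [hZ, nsmul_eq_mul, nsmul_eq_mul] at h1
    norm_num [NN] at h1
    linarith
  have hU' : ∑ g : G with g ∈ conjSet (ReeSylowThree.uSub D), F g =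
      19684 * ∑ g : G with g ∈ ReeSylowThree.uSub D ∧ g ≠ 1, F g := by
    have h1 := H.sum_u F hF
    rw [nsmul_eq_mul, nsmul_eq_mul] at h1
    norm_num [NN] at h1
    linarith
  rw [sum_uSub D F] at hU'
  have c26 : (univ.filter fun v : K => v ≠ 0).card = 26 := by
    rw [Finset.filter_ne' univ (0 : K), Finset.card_erase_of_mem (mem_univ 0), Finset.card_univ, H.hK]
  have hP0 : ∑ v : K with v ≠ 0, F (U 0 0 v) = 26 * (x : ℝ) ^ 2 := by
    have h1 : ∀ v ∈ univ.filter (fun v : K => v ≠ 0), F (U 0 0 v) = (x : ℝ) ^ 2 := by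
      intro v hv
      change Complex.normSq ((χ : G → ℂ) (U 0 0 v)) = _
      rw [hx v (Finset.mem_filter.1 hv).2, Complex.normSq_intCast]
      ring
    rw [Finset.sum_congr rfl h1, Finset.sum_const, c26, nsmul_eq_mul]
    norm_num
  rw [hP0] at hU'
  set SP : ℝ := ∑ u : K with u ≠ 0, ∑ v : K, F (U 0 u v) with hSP
  set SU : ℝ := ∑ t : K with t ≠ 0, ∑ u : K, ∑ v : K, F (U t u v) with hSU
  have hSP0 : 0 ≤ SP := Finset.sum_nonneg fun u _ => Finset.sum_nonneg fun v _ => hF0 _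
  have hSU0 : 0 ≤ SU := Finset.sum_nonneg fun t _ => Finset.sum_nonneg fun u _ => Finset.sum_nonneg fun v _ => hF0 _
  -- Cauchy–Schwarz
  have csP : (351 * (τ : ℝ)) ^ 2 ≤ 702 * SP := by
    have h1 := cs ((univ.filter fun u : K => u ≠ 0) ×ˢ (univ : Finset K)) (fun y => (χ : G → ℂ) (U 0 y.1 y.2))
      (r := 351 * (τ : ℝ)) (by rw [Finset.sum_product]; push_cast; exact hτ)
    rw [Finset.card_product, c26, Finset.card_univ, H.hK, Finset.sum_product] at h1
    norm_num at h1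
    exact h1
  have csU : (19683 * (f : ℝ) - 729 * e) ^ 2 ≤ 18954 * SU := by
    have h1 := cs ((univ.filter fun u : K => u ≠ 0) ×ˢ ((univ : Finset K) ×ˢ (univ : Finset K)))
      (fun y => (χ : G → ℂ) (U y.1 y.2.1 y.2.2)) (r := 19683 * (f : ℝ) - 729 * e) (by
        rw [Finset.sum_product]
        simp only [Finset.sum_product]
        push_cast
        exact hf)
    rw [Finset.card_product, Finset.card_product, c26, Finset.card_univ, H.hK, Finset.sum_product] at h1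
    simp only [Finset.sum_product] at h1
    norm_num at h1
    exact h1
  -- the norm
  have hnorm : ∑ g, F g = (NN : ℝ) := by
    rw [Cfsg.Agent.H729.Norm.sum_normSq χ.2, H.card]
  have hsplit := split_le (Subgroup.zpowers z) (ReeSylowThree.uSub D) H.card_z H.card_u hF0
  rw [hnorm, hF1, hZ', hU'] at hsplit
  have h37 : (45375876 : ℝ) * (((d % 37) * (37 - d % 37) : ℕ) : ℝ) ≤ ∑ g : G with orderOf g = 37, F g := by
    have h1 := Cfsg.Agent.H729.Norm.card_mul_le (G := G) (by norm_num) H.hw H.hwn hF0 hF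
    have h2 := Cfsg.Agent.H729.Norm.le_sum_normSq hc (x := w) (p := 37) (by norm_num)
      (by rw [← H.hw]; exact pow_orderOf_eq_one w) hd
    rw [H.card] at h1
    have h3 : (NN : ℝ) * (((d % 37) * (37 - d % 37) : ℕ) : ℝ) ≤
        222 * ∑ g : G with orderOf g = 37, F g := le_trans (mul_le_mul_of_nonneg_left h2 (Nat.cast_nonneg _)) h1
    norm_num [NN] at h3 ⊢
    linarith
  have h13 : (193720086 : ℝ) * (((d % 13) * (13 - d % 13) : ℕ) : ℝ) ≤ ∑ g : G with orderOf g = 13, F g := by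
    have h1 := Cfsg.Agent.H729.Norm.card_mul_le (G := G) (by norm_num) H.hs H.hsn hF0 hF
    have h2 := Cfsg.Agent.H729.Norm.le_sum_normSq hc (x := s) (p := 13) (by norm_num)
      (by rw [← H.hs]; exact pow_orderOf_eq_one s) hd
    rw [H.card] at h1
    have h3 : (NN : ℝ) * (((d % 13) * (13 - d % 13) : ℕ) : ℝ) ≤
        52 * ∑ g : G with orderOf g = 13, F g := le_trans (mul_le_mul_of_nonneg_left h2 (Nat.cast_nonneg _)) h1
    norm_num [NN] at h3 ⊢
    linarith
  have hfin : (d : ℤ) ^ 2 + 88363548 * (19 * ((m₀ : ℤ) ^ 2 + 6 * ((a : ℤ) ^ 2 + b ^ 2 + c ^ 2)) - (d : ℤ) ^ 2) +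
      45375876 * (((d % 37) * (37 - d % 37) : ℕ) : ℤ) + 193720086 * (((d % 13) * (13 - d % 13) : ℕ) : ℤ) +
      511784 * x ^ 2 ≤ (NN : ℤ) := by
    generalize ((d % 37) * (37 - d % 37) : ℕ) = r37 at h37 ⊢
    generalize ((d % 13) * (13 - d % 13) : ℕ) = r13 at h13 ⊢
    rw [← Int.cast_le (R := ℝ)]
    have hNN : (NN : ℝ) = 10073444472 := by norm_num [NN]
    rw [hNN] at hsplit
    push_cast
    linarith
  obtain ⟨r1, r2, r3, r4⟩ := degree hdd hdvd hxk hne hfin
  have r4' : 19 * ((m₀ : ℝ) ^ 2 + 6 * ((a : ℝ) ^ 2 + b ^ 2 + c ^ 2)) - (d : ℝ) ^ 2 = 78 := by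
    rw [← Int.cast_inj (α := ℝ)] at r4
    push_cast at r4
    exact r4
  rw [r4'] at hsplit hZ'
  rw [r1, r3] at hsplit hτe
  have he27 : 27 * (e : ℤ) = 962 + 13 * τ := by
    push_cast at hτe
    omega
  have h0 : 0 ≤ ∑ g : G with orderOf g = 37, F g := Finset.sum_nonneg fun g _ => hF0 g
  have h0' : 0 ≤ ∑ g : G with orderOf g = 13, F g := Finset.sum_nonneg fun g _ => hF0 g
  have hSPU : SP + SU ≤ 89154 := by
    push_cast at hsplit
    norm_num [NN] at hsplit
    linarith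
  obtain ⟨t1, t2, t3⟩ := upart (τ := τ) he27 hef (by
    rw [← Int.cast_le (R := ℝ)]
    push_cast
    nlinarith)
  rw [t1] at csP
  rw [t2, t3] at csU hf
  push_cast at csP csU hf
  norm_num at csP csU hf
  have hSP2 : 70200 ≤ SP := by linarith
  have hSU2 : 18954 ≤ SU := by linarith
  refine ⟨χ, by rw [hd, r1]; norm_num, fun v hv => by rw [hx v hv, r3]; norm_num, ?_, ?_, ?_⟩
  · intro t ht u v
    refine cs_eq ((univ.filter fun u : K => u ≠ 0) ×ˢ ((univ : Finset K) ×ˢ (univ : Finset K)))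
      (fun y => (χ : G → ℂ) (U y.1 y.2.1 y.2.2)) ?_ ?_ (t, u, v) ?_
    · rw [Finset.sum_product]
      simp only [Finset.sum_product]
      rw [hf, Finset.card_product, Finset.card_product, c26, Finset.card_univ, H.hK]
      norm_num
    · rw [Finset.card_product, Finset.card_product, c26, Finset.card_univ, H.hK, Finset.sum_product]
      simp only [Finset.sum_product]
      norm_num
      change SU ≤ _
      linarith
    · simp [ht]
  · intro g h1 h2 h3
    have h4 := split_eq (Subgroup.zpowers z) (ReeSylowThree.uSub D) H.card_z H.card_u hF0 (by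
      rw [hnorm, hF1, hZ', hU', r1, r3]
      push_cast
      norm_num [NN]
      linarith) h1 h2 h3
    exact Complex.normSq_eq_zero.1 h4
  · rw [sum_ne_one, sum_zpowers H.hz, hs1, hd, r1, r2]
    norm_num

end Cfsg.Agent.H388.R27
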