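import Mathlib
import Cfsg.Agent.H699.EqDeg
import Cfsg.Agent.S0914

/-!
# Multiplicities of defect zero characters in Brauer characters (helper388)

`exists_mult`: for an irreducible character `χ` of `G` forming a block on its own and vanishing at the elements
of order divisible by `p`, and a representation `σ` over the residue field with Brauer character `φ`, the sum of
`φ g * conj (χ g)` over the `p`-regular elements is a natural multiple of `|G|`.
-/

set_option autoImplicit false

universe u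

namespace Cfsg.Agent.H388.R27

open Cfsg IsLocalRing Module Cfsg.Agent.H657 Cfsg.Agent.H699.IBrLift Cfsg.Agent.H699.EqDeg
open Cfsg.Agent.H608.BlockRank
open scoped ComplexConjugate

attribute [local instance] Above.isAlgClosed

variable {V : ValuationSubring ℂ} {G : Type u} [Group G] [Fintype G] {M : Ideal AlgInt} {p : ℕ}

theorem sum_pReg_mul (χ : IrrCharacter G) (hvan : ∀ g : G, p ∣ orderOf g → (χ : G → ℂ) g = 0)
    (ψ : IrrCharacter G) :
    ∑ g : G, pReg p (ψ : G → ℂ) g * conj ((χ : G → ℂ) g) =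
      (Nat.card G : ℂ) * classInner (ψ : G → ℂ) (χ : G → ℂ) := by
  have h0 : (Nat.card G : ℂ) ≠ 0 := Characters.Core.card_ne_zero_complex
  rw [classInner, mul_inv_cancel_left₀ h0]
  refine Finset.sum_congr rfl fun g _ => ?_
  by_cases hg : IsPRegular p g
  · rw [pReg_of hg]
  · have : p ∣ orderOf g := not_not.1 hg
    rw [pReg_of_not hg, hvan g this]
    simp

/-- The pairing of an irreducible Brauer character with a character of defect zero is `0` or `|G|`. -/
theorem pairing_ibr (hM : IsPModular p M) (hV : Above M V) (χ : IrrCharacter G)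
    (hvan : ∀ g : G, p ∣ orderOf g → (χ : G → ℂ) g = 0)
    (hB : blockOf M (χ : G → ℂ) = {χ}) (i : IBr V G) :
    ∑ g : G, phi p i g * conj ((χ : G → ℂ) g) = 0 ∨
      ∑ g : G, phi p i g * conj ((χ : G → ℂ) g) = Nat.card G := by
  classical
  have : Fact p.Prime := ⟨hM.1⟩
  have : CharP (ResidueField V) p := hV.charP hM
  have hMp := Blocks.Local.isPrime_of_isPModular hM
  have := Characters.Core.finite_irr (G := G)
  have : Fintype (IrrCharacter G) := Fintype.ofFinite _
  obtain ⟨χ', hχ'⟩ := exists_under hM hV i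
  by_cases he : χ' = χ
  · subst he
    right
    obtain ⟨i₀, -, h2, h3⟩ := exists_single hM hV (B := blockOf M (χ' : G → ℂ)) ⟨χ', rfl⟩
      (d := charDegree (χ' : G → ℂ)) (by rw [hB]; rintro _ rfl; rfl)
    have h4 : i ∈ ibrUnder V (blockOf M (χ' : G → ℂ)) := ⟨χ', by rw [hB]; rfl, hχ'⟩
    rw [h3, Set.mem_singleton_iff] at h4
    subst h4
    rw [← h2 χ' (by rw [hB]; rfl), sum_pReg_mul χ' hvan χ', Characters.Core.classInner_irr_self χ'.2, mul_one]
  · left
    have hU : IsUnion M ({χ}ᶜ : Set (IrrCharacter G)) := by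
      intro a b hab ha hb
      apply ha
      have hb' : b = χ := hb
      subst hb'
      have h5 : a ∈ blockOf M (b : G → ℂ) := Blocks.Basic.sameBlock_symm hab
      rw [hB] at h5
      exact h5
    obtain ⟨n, hn, h⟩ := exists_int_comb hM hV hU (i := i) ⟨χ', he, hχ'⟩
    rw [h]
    have h6 : ∀ g : G, (∑ ψ : IrrCharacter G, (n ψ : ℂ) • pReg p (ψ : G → ℂ)) g * conj ((χ : G → ℂ) g) =
        ∑ ψ : IrrCharacter G, (n ψ : ℂ) * (pReg p (ψ : G → ℂ) g * conj ((χ : G → ℂ) g)) := by
      intro g
      rw [Finset.sum_apply, Finset.sum_mul]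
      refine Finset.sum_congr rfl fun ψ _ => ?_
      rw [Pi.smul_apply, smul_eq_mul, mul_assoc]
    rw [Finset.sum_congr rfl fun g _ => h6 g, Finset.sum_comm]
    refine Finset.sum_eq_zero fun ψ _ => ?_
    rw [← Finset.mul_sum, sum_pReg_mul χ hvan ψ]
    by_cases hψ : ψ = χ
    · subst hψ
      rw [hn ψ (fun h => h rfl)]
      simp
    · rw [Characters.Core.classInner_irr_ne ψ.2 χ.2 (fun h => hψ (Subtype.ext h))]
      simp

/-- **Positivity.** -/
theorem exists_mult (hM : IsPModular p M) (hV : Above M V) (χ : IrrCharacter G)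
    (hvan : ∀ g : G, p ∣ orderOf g → (χ : G → ℂ) g = 0)
    (hB : blockOf M (χ : G → ℂ) = {χ}) {W : Type*} [AddCommGroup W] [Module (ResidueField V) W]
    [FiniteDimensional (ResidueField V) W] (σ : Representation (ResidueField V) G W) :
    ∃ n : ℕ, ∑ g : G, bc p σ g * conj ((χ : G → ℂ) g) = (n : ℂ) * Nat.card G := by
  classical
  have : Fact p.Prime := ⟨hM.1⟩
  have : CharP (ResidueField V) p := hV.charP hM
  obtain ⟨m, idx, h⟩ := exists_sum_bc (p := p) σ
  have h1 : ∑ g : G, bc p σ g * conj ((χ : G → ℂ) g) =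
      ∑ l, ∑ g : G, phi p (idx l) g * conj ((χ : G → ℂ) g) := by
    rw [Finset.sum_comm]
    refine Finset.sum_congr rfl fun g _ => ?_
    rw [← Finset.sum_mul]
    by_cases hg : IsPRegular p g
    · rw [h g hg]
    · rw [hvan g (not_not.1 hg)]
      simp
  rw [h1]
  have h2 : ∀ l, ∃ e : ℕ, ∑ g : G, phi p (idx l) g * conj ((χ : G → ℂ) g) = (e : ℂ) * Nat.card G := by
    intro l
    rcases pairing_ibr hM hV χ hvan hB (idx l) with h3 | h3
    · exact ⟨0, by rw [h3]; simp⟩
    · exact ⟨1, by rw [h3]; simp⟩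
  choose e he using h2
  refine ⟨∑ l, e l, ?_⟩
  rw [Finset.sum_congr rfl fun l _ => he l, ← Finset.sum_mul]
  push_cast
  rfl

end Cfsg.Agent.H388.R27
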